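import Groth.Agent.Catenary.Hartshorne
import Groth.Agent.InvFin.Depth
import Groth.Agent.ZCl.Alg
import Groth.Agent.ArtFlat.Basic
import Groth.Prelude.Def_EGA4b

/-!
# Flatness over an Artinian base from codimension one, for `S₁` rings with `S₂` reduction
-/

set_option autoImplicit false
set_option linter.style.haveILetI false
universe u

open IsLocalRing TensorProduct

namespace Groth.Agent.FlatS2

variable {A : Type u} [CommRing A] [IsLocalRing A]

theorem exists_step_above [IsArtinianRing A] {J : Ideal A} (hJ : J ≠ ⊤) :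
    ∃ ε, ε ∉ J ∧ ∀ a ∈ maximalIdeal A, a * ε ∈ J := by
  classical
  obtain ⟨n, hn⟩ := ArtFlat.isNilpotent_maximalIdeal (A := A)
  have h : ∃ k, maximalIdeal A ^ k ≤ J := ⟨n, by rw [hn]; exact bot_le⟩
  rcases hk : Nat.find h with _ | k
  · have := Nat.find_spec h
    rw [hk, pow_zero, Ideal.one_eq_top, top_le_iff] at this
    exact absurd this hJ
  · obtain ⟨ε, hε, hεJ⟩ := SetLike.not_le_iff_exists.mp (Nat.find_min h (show k < Nat.find h by omega))
    refine ⟨ε, hεJ, fun a ha => Nat.find_spec h ?_⟩
    rw [hk, pow_succ']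
    exact Ideal.mul_mem_mul ha hε

theorem exists_step_below [IsArtinianRing A] {J' : Ideal A} (hJ : J' ≠ ⊥) :
    ∃ J < J', ∃ ε ∈ J', ε ∉ J ∧ J' = J ⊔ Ideal.span {ε} ∧ ∀ a ∈ maximalIdeal A, a * ε ∈ J := by
  obtain ⟨J, hJJ', hmax⟩ := (wellFounded_gt (α := Ideal A)).has_min {J | J < J'} ⟨⊥, bot_lt_iff_ne_bot.mpr hJ⟩
  replace hJJ' : J < J' := hJJ'
  obtain ⟨ε, hε, hεJ⟩ := SetLike.exists_of_lt hJJ'
  have hgen : ∀ η ∈ J', η ∉ J → J' = J ⊔ Ideal.span {η} := fun η hη hηJ => by
    have hle : J ⊔ Ideal.span {η} ≤ J' := sup_le hJJ'.le ((Ideal.span_singleton_le_iff_mem _).mpr hη)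
    refine (eq_or_lt_of_le hle).elim Eq.symm fun hlt => absurd ?_ hηJ
    have h0 : J = J ⊔ Ideal.span {η} := (eq_or_lt_of_le le_sup_left).resolve_right (hmax _ hlt)
    exact h0.ge (Ideal.mem_sup_right (Ideal.mem_span_singleton_self η))
  refine ⟨J, hJJ', ε, hε, hεJ, hgen ε hε hεJ, fun a ha => ?_⟩
  by_contra hη
  have := (hgen _ (J'.mul_mem_left a hε) hη).le hε
  obtain ⟨j, hj, r, hr, hsum⟩ := Submodule.mem_sup.mp this
  obtain ⟨c, rfl⟩ := Ideal.mem_span_singleton'.mp hr
  obtain ⟨v, hv⟩ : IsUnit (1 - c * a) := isUnit_one_sub_self_of_mem_nonunits _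
    ((maximalIdeal A).mul_mem_left c ha)
  refine hεJ ?_
  have h1 : (1 - c * a) * ε = j := by linear_combination -hsum
  rw [show ε = ↑v⁻¹ * j from by rw [← h1, ← hv, ← mul_assoc, Units.inv_mul, one_mul]]
  exact J.mul_mem_left _ hj

section Flat

variable {C : Type u} [CommRing C] [Algebra A C] [Module.Flat A C]

theorem mem_map_maximal_of_mul_mem {J : Ideal A} {ε : A} (hε : ε ∉ J) {c : C}
    (h : algebraMap A C ε * c ∈ J.map (algebraMap A C)) : c ∈ (maximalIdeal A).map (algebraMap A C) := by
  have hJ : ∀ I : Ideal A, ∀ z : C, z ∈ I.map (algebraMap A C) ↔ z ∈ I • (⊤ : Submodule A C) := fun I z => by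
    rw [Ideal.smul_top_eq_map]
    rfl
  rw [hJ] at h ⊢
  let g : A →ₗ[A] A ⧸ J := LinearMap.toSpanSingleton A (A ⧸ J) (Ideal.Quotient.mk J ε)
  have hker : ∀ a : A, g a = 0 → a ∈ maximalIdeal A := fun a ha => by
    by_contra hu
    refine hε ?_
    have h1 : a * ε ∈ J := by
      rw [← Ideal.Quotient.eq_zero_iff_mem, map_mul]
      exact ha
    obtain ⟨v, rfl⟩ := notMem_maximalIdeal.mp hu
    simpa [← mul_assoc] using J.mul_mem_left (↑v⁻¹ : A) h1
  have hex := Module.Flat.lTensor_exact C (LinearMap.exact_subtype_ker_map g)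
  have h0 : g.lTensor C (c ⊗ₜ[A] (1 : A)) = 0 := by
    apply (TensorProduct.tensorQuotEquivQuotSMul C J).injective
    rw [map_zero, LinearMap.lTensor_tmul, show g 1 = Ideal.Quotient.mk J ε from one_smul _ _,
      TensorProduct.tensorQuotEquivQuotSMul_tmul_mk, Submodule.Quotient.mk_eq_zero]
    rw [← Algebra.smul_def] at h
    exact h
  obtain ⟨z, hz⟩ := (hex _).mp h0
  have key : ∀ z : C ⊗[A] LinearMap.ker g,
      TensorProduct.rid A C ((LinearMap.ker g).subtype.lTensor C z) ∈ maximalIdeal A • (⊤ : Submodule A C) := fun z => by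
    induction z using TensorProduct.induction_on with
    | zero => simp
    | tmul a k =>
      rw [LinearMap.lTensor_tmul, TensorProduct.rid_tmul]
      exact Submodule.smul_mem_smul (hker _ k.2) trivial
    | add a b ha hb => rw [map_add, map_add]; exact add_mem ha hb
  have := key z
  rwa [hz, TensorProduct.rid_tmul, one_smul] at this

theorem mem_map_of_mul_mem [IsArtinianRing A] {x : C}
    (hx : ∀ c, x * c ∈ (maximalIdeal A).map (algebraMap A C) → c ∈ (maximalIdeal A).map (algebraMap A C))
    (J : Ideal A) : ∀ b, x * b ∈ J.map (algebraMap A C) → b ∈ J.map (algebraMap A C) := by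
  induction J using WellFoundedGT.induction with
  | ind J ih =>
    intro b hb
    by_cases hJ : J = ⊤
    · subst hJ
      rw [Ideal.map_top]
      trivial
    obtain ⟨ε, hε, hmε⟩ := exists_step_above hJ
    have hlt : J < J ⊔ Ideal.span {ε} := lt_of_le_of_ne le_sup_left fun e =>
      hε (e.ge (Ideal.mem_sup_right (Ideal.mem_span_singleton_self ε)))
    have := ih _ hlt b (Ideal.map_mono le_sup_left hb)
    rw [Ideal.map_sup, Ideal.map_span, Set.image_singleton] at this
    obtain ⟨j, hj, r, hr, rfl⟩ := Submodule.mem_sup.mp this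
    obtain ⟨c, rfl⟩ := Ideal.mem_span_singleton'.mp hr
    have h1 : algebraMap A C ε * (x * c) ∈ J.map (algebraMap A C) := by
      have h2 := sub_mem hb (Ideal.mul_mem_left _ x hj)
      rwa [show x * (j + c * algebraMap A C ε) - x * j = algebraMap A C ε * (x * c) by ring] at h2
    refine add_mem hj ?_
    have hc := hx c (mem_map_maximal_of_mul_mem hε h1)
    have h3 : c * algebraMap A C ε ∈ ((maximalIdeal A) * Ideal.span {ε}).map (algebraMap A C) := by
      rw [Ideal.map_mul, Ideal.map_span, Set.image_singleton]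
      exact Ideal.mul_mem_mul hc (Ideal.mem_span_singleton_self _)
    refine Ideal.map_mono ?_ h3
    rw [Ideal.mul_le]
    intro a ha e he
    obtain ⟨t, rfl⟩ := Ideal.mem_span_singleton'.mp he
    rw [show a * (t * ε) = t * (a * ε) by ring]
    exact J.mul_mem_left t (hmε a ha)

end Flat

/-- A pair in a regular sequence excludes the maximal ideal from the associated primes of `R/x`. -/
theorem exists_eq_mul_of_depth_two {R : Type u} [CommRing R] [IsLocalRing R] [IsNoetherianRing R]
    (hd : (2 : ℕ∞) ≤ LocCoh.depth R R) {x c : R} (hx : IsSMulRegular R x)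
    (h : ∀ a ∈ maximalIdeal R, ∃ d, a * c = x * d) : ∃ e, c = x * e := by
  obtain ⟨rs, hlen, hw, hm⟩ := ZCl.exists_regular_pair R 2 (by exact_mod_cast hd)
  obtain ⟨a, b, rfl⟩ : ∃ a b, rs = [a, b] := by
    rcases rs with _ | ⟨a, _ | ⟨b, _ | ⟨z, l⟩⟩⟩ <;> simp at hlen
    exact ⟨a, b, rfl⟩
  obtain ⟨ha, hb⟩ := (RingTheory.Sequence.isWeaklyRegular_cons_iff R a [b]).mp hw
  obtain ⟨d, hd'⟩ := h a (hm a List.mem_cons_self)
  obtain ⟨d', hd''⟩ := h b (hm b (List.mem_cons_of_mem _ List.mem_cons_self))
  exact ZCl.exists_smul_eq_of_pair ha ((RingTheory.Sequence.isWeaklyRegular_cons_iff _ b []).mp hb).1 hx hd' hd''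

variable [IsArtinianRing A] (B : Type u) [CommRing B] [Algebra A B] [IsNoetherianRing B]

theorem comap_eq_maximal (q : Ideal B) [q.IsPrime] : q.comap (algebraMap A B) = maximalIdeal A :=
  eq_maximalIdeal (IsArtinianRing.isMaximal_of_isPrime _)

theorem map_le_nilradical : (maximalIdeal A).map (algebraMap A B) ≤ nilradical B := by
  rw [nilradical_eq_sInf]
  refine le_sInf fun q hq => ?_
  haveI : q.IsPrime := hq
  rw [Ideal.map_le_iff_le_comap, comap_eq_maximal B q]

theorem mem_nilradical_iff_minimal (b : B) : b ∈ nilradical B ↔ ∀ q ∈ minimalPrimes B, b ∈ q := by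
  rw [nilradical, ← Ideal.sInf_minimalPrimes, Submodule.mem_sInf]
  rfl

theorem mem_map_localization_iff (J : Ideal A) (q : Ideal B) [q.IsPrime] (b : B) :
    algebraMap B (Localization.AtPrime q) b ∈ J.map (algebraMap A (Localization.AtPrime q)) ↔
      ∃ s ∉ q, s * b ∈ J.map (algebraMap A B) := by
  rw [IsScalarTower.algebraMap_eq A B (Localization.AtPrime q), ← Ideal.map_map,
    IsLocalization.algebraMap_mem_map_algebraMap_iff q.primeCompl]
  rfl

theorem fibre_reduced (hcodim : ∀ (q : Ideal B) [q.IsPrime], q.height ≤ 1 →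
      Module.Flat A (Localization.AtPrime q) ∧ IsReduced (EGA4.FibLocRing A B q))
    (q : Ideal B) [q.IsPrime] (hq : q.height ≤ 1) (z : Localization.AtPrime q) (hz : IsNilpotent z) :
    z ∈ (maximalIdeal A).map (algebraMap A (Localization.AtPrime q)) := by
  haveI := (hcodim q hq).2
  rw [← comap_eq_maximal (A := A) B q, ← Ideal.Quotient.eq_zero_iff_mem]
  exact (hz.map _).eq_zero

theorem main (hS1 : LocCoh.HasSk 1 B B) (hS2 : LocCoh.HasSk 2 (B ⧸ nilradical B) (B ⧸ nilradical B))
    (hcodim : ∀ (q : Ideal B) [q.IsPrime], q.height ≤ 1 →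
      Module.Flat A (Localization.AtPrime q) ∧ IsReduced (EGA4.FibLocRing A B q)) :
    nilradical B = (maximalIdeal A).map (algebraMap A B) ∧ Module.Flat A B := by
  classical
  have hmin0 : ∀ q ∈ minimalPrimes B, ∀ [q.IsPrime], q.height ≤ 1 := fun q hq _ => by
    have : q.height = 0 := Ideal.height_eq_zero_iff.mpr hq
    rw [this]
    exact zero_le
  -- `ε b ∈ J B` forces `b` nilpotent
  have hann : ∀ (J : Ideal A) (ε : A), ε ∉ J → ∀ b : B,
      algebraMap A B ε * b ∈ J.map (algebraMap A B) → b ∈ nilradical B := fun J ε hε b hb => by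
    rw [mem_nilradical_iff_minimal]
    intro q hq
    haveI := hq.1.1
    haveI := (hcodim q (hmin0 q hq)).1
    have h1 := mem_map_maximal_of_mul_mem (C := Localization.AtPrime q) hε
      (c := algebraMap B _ b) (by
        rw [IsScalarTower.algebraMap_apply A B (Localization.AtPrime q), ← map_mul, mem_map_localization_iff]
        exact ⟨1, Ideal.IsPrime.one_notMem inferInstance, by rwa [one_mul]⟩)
    obtain ⟨s, hs, hsb⟩ := (mem_map_localization_iff B _ q b).mp h1
    refine (Ideal.IsPrime.mem_or_mem inferInstance ?_).resolve_left hs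
    have := map_le_nilradical (A := A) B hsb
    rw [mem_nilradical_iff_minimal] at this
    exact this q hq
  have hlocN : ∀ ν ∈ nilradical B, ∀ q ∈ minimalPrimes B, ∃ s ∉ q, s * ν ∈ (maximalIdeal A).map (algebraMap A B) :=
    fun ν hν q hq => by
      haveI := hq.1.1
      exact (mem_map_localization_iff B _ q ν).mp (fibre_reduced B hcodim q (hmin0 q hq) _ (IsNilpotent.map hν _))
  -- saturation
  have hsat : ∀ J : Ideal A, ∀ b : B, (∀ q ∈ minimalPrimes B, ∃ s ∉ q, s * b ∈ J.map (algebraMap A B)) →
      b ∈ J.map (algebraMap A B) := by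
    intro J'
    induction J' using WellFoundedLT.induction with
    | ind J' ih =>
      intro b₀ hb₀
      by_contra hb₀'
      let M := B ⧸ J'.map (algebraMap A B)
      have hne : Ideal.Quotient.mk (J'.map (algebraMap A B)) b₀ ≠ 0 := fun e => hb₀' (Ideal.Quotient.eq_zero_iff_mem.mp e)
      obtain ⟨Q, hQ, -⟩ := exists_le_isAssociatedPrime_of_isNoetherianRing B
        (⟨_, Submodule.mem_span_singleton_self _⟩ : Submodule.span B {Ideal.Quotient.mk (J'.map (algebraMap A B)) b₀})
        (fun e => hne (congrArg Subtype.val e))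
      obtain ⟨hQp, ⟨w, hw⟩, hQw⟩ := isAssociatedPrime_iff.1 hQ
      obtain ⟨r, hr⟩ := Submodule.mem_span_singleton.mp hw
      let b := r * b₀
      have hbQ : ∀ a, a ∈ Q ↔ a * b ∈ J'.map (algebraMap A B) := fun a => by
        rw [hQw, Submodule.mem_colon_singleton, Submodule.mem_bot, Subtype.ext_iff]
        show a • w = 0 ↔ _
        rw [← hr, smul_smul, ← Ideal.Quotient.eq_zero_iff_mem, ← mul_assoc, map_mul _ (a * r) b₀]
        exact Iff.rfl
      have hb : ∀ q ∈ minimalPrimes B, ∃ s ∉ q, s * b ∈ J'.map (algebraMap A B) := fun q hq => by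
        obtain ⟨s, hs, hsb⟩ := hb₀ q hq
        exact ⟨s, hs, by rw [show s * b = r * (s * b₀) by simp only [b]; ring]; exact Ideal.mul_mem_left _ r hsb⟩
      have hQmin : Q ∉ minimalPrimes B := fun hm => by
        obtain ⟨s, hs, hsb⟩ := hb Q hm
        exact hs ((hbQ s).mpr hsb)
      by_cases hbot : J' = ⊥
      · -- no embedded primes
        have h1 := hS1 Q
        rw [InvFin.supportDim_self, ← InvFin.depth_self] at h1
        have hQh : (1 : ℕ∞) ≤ Q.height := by
          rw [Order.one_le_iff_ne_zero, Ne, Ideal.height_eq_zero_iff]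
          exact hQmin
        have h2 : (1 : ℕ∞) ≤ LocCoh.depth (Localization.AtPrime Q) (Localization.AtPrime Q) := by
          rw [← WithBot.coe_le_coe]
          exact le_trans (le_min le_rfl (WithBot.coe_le_coe.mpr hQh)) h1
        obtain ⟨rs, hlen, hw', hm⟩ := ZCl.exists_regular_pair (Localization.AtPrime Q) 1 (by exact_mod_cast h2)
        obtain ⟨a, rfl⟩ : ∃ a, rs = [a] := List.length_eq_one_iff.mp hlen
        have ha := ((RingTheory.Sequence.isWeaklyRegular_cons_iff _ a []).mp hw').1
        have hzero : ∀ c : B, c ∈ Q → algebraMap B (Localization.AtPrime Q) c * algebraMap B _ b = 0 := fun c hc => by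
          have := (hbQ c).mp hc
          rw [hbot, Ideal.map_bot, Ideal.mem_bot] at this
          rw [← map_mul, this, map_zero]
        obtain ⟨⟨c, s⟩, hcs⟩ := IsLocalization.surj Q.primeCompl a
        have hc : c ∈ Q := by
          rw [← IsLocalization.AtPrime.to_map_mem_maximal_iff (Localization.AtPrime Q) Q, ← hcs]
          exact Ideal.mul_mem_right _ _ (hm a List.mem_cons_self)
        have h0 : algebraMap B (Localization.AtPrime Q) b = 0 := by
          have h3 := hzero c hc
          rw [← hcs, mul_comm a, mul_assoc] at h3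
          have h4 := (IsLocalization.map_units (Localization.AtPrime Q) s).mul_right_eq_zero.mp h3
          exact ha (show a * _ = a * 0 by rw [h4, mul_zero])
        obtain ⟨t, ht⟩ := (IsLocalization.map_eq_zero_iff Q.primeCompl _ b).mp h0
        exact t.2 ((hbQ t).mpr (by rw [ht]; exact Ideal.zero_mem _))
      obtain ⟨J, hJJ', ε, hεJ', hεJ, hgen, hmε⟩ := exists_step_below hbot
      have hsum : ∀ z ∈ J'.map (algebraMap A B), ∃ j ∈ J.map (algebraMap A B), ∃ c, z = j + algebraMap A B ε * c := by
        intro z hz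
        rw [hgen, Ideal.map_sup, Ideal.map_span, Set.image_singleton] at hz
        obtain ⟨j, hj, t, ht, rfl⟩ := Submodule.mem_sup.mp hz
        obtain ⟨c, rfl⟩ := Ideal.mem_span_singleton'.mp ht
        exact ⟨j, hj, c, by rw [mul_comm]⟩
      -- `x ∈ Q` outside the minimal primes
      obtain ⟨x, hxQ, hxmin⟩ : ∃ x ∈ Q, ∀ q ∈ minimalPrimes B, x ∉ q := by
        by_contra! hcon
        have hfin := minimalPrimes.finite_of_isNoetherianRing B
        obtain ⟨q, hq, hle⟩ := (Ideal.subset_union_prime_finite (f := fun q => q) hfin ⊥ ⊥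
          fun q hq _ _ => hq.1.1).1 (fun x hx => by obtain ⟨q, hq, hxq⟩ := hcon x hx; exact Set.mem_iUnion₂.mpr ⟨q, hq, hxq⟩)
        exact hQmin (le_antisymm hle (hq.2 ⟨hQp, bot_le⟩ hle) ▸ hq)
      by_cases hQ1 : Q.height ≤ 1
      · haveI := (hcodim Q hQ1).1
        let C := Localization.AtPrime Q
        have hx : ∀ c : C, algebraMap B C x * c ∈ (maximalIdeal A).map (algebraMap A C) →
            c ∈ (maximalIdeal A).map (algebraMap A C) := fun c hc => by
          obtain ⟨⟨d, s⟩, hds⟩ := IsLocalization.surj Q.primeCompl c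
          obtain ⟨t, ht, htm⟩ := (mem_map_localization_iff B _ Q (x * d)).mp (by
            rw [map_mul, ← hds, ← mul_assoc]
            exact Ideal.mul_mem_right _ _ hc)
          have hN : t * d ∈ nilradical B := by
            have h1 := map_le_nilradical (A := A) B htm
            rw [mem_nilradical_iff_minimal] at h1 ⊢
            intro q hq
            refine (hq.1.1.mem_or_mem (show x * (t * d) ∈ q from ?_)).resolve_left (hxmin q hq)
            rw [show x * (t * d) = t * (x * d) by ring]
            exact h1 q hq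
          have h2 : IsNilpotent c := by
            have h3 : IsNilpotent (algebraMap B C t * (c * algebraMap B C s)) := by
              rw [hds, ← map_mul]
              exact IsNilpotent.map hN _
            obtain ⟨k, hk⟩ := h3
            refine ⟨k, ?_⟩
            rw [mul_pow, mul_pow, ← mul_assoc, mul_comm (_ * c ^ k)] at hk
            have h4 := ((IsLocalization.map_units C s).pow k).mul_right_eq_zero.mp hk
            exact ((IsLocalization.map_units (M := Q.primeCompl) C ⟨t, ht⟩).pow k).mul_right_eq_zero.mp h4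
          exact fibre_reduced B hcodim Q hQ1 c h2
        have h5 := mem_map_of_mul_mem hx J' (algebraMap B C b) (by
          rw [← map_mul, mem_map_localization_iff]
          exact ⟨1, hQp.one_notMem, by rw [one_mul]; exact (hbQ x).mp hxQ⟩)
        obtain ⟨t, ht, htb⟩ := (mem_map_localization_iff B _ Q b).mp h5
        exact ht ((hbQ t).mpr htb)
      -- codimension at least two
      obtain ⟨j, hj, c, hjc⟩ := hsum _ ((hbQ x).mp hxQ)
      let π := Ideal.Quotient.mk (nilradical B)
      have hπ : Function.Surjective π := Ideal.Quotient.mk_surjective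
      have hmul : ∀ y ∈ Q, ∃ d, π y * π c = π x * π d := fun y hy => by
        obtain ⟨j', hj', c', hjc'⟩ := hsum _ ((hbQ y).mp hy)
        refine ⟨c', ?_⟩
        rw [← map_mul, ← map_mul, Ideal.Quotient.eq]
        refine hann J ε hεJ _ ?_
        have h1 : algebraMap A B ε * (y * c - x * c') = x * j' - y * j := by linear_combination -y * hjc + x * hjc'
        rw [h1]
        exact sub_mem (Ideal.mul_mem_left _ _ hj') (Ideal.mul_mem_left _ _ hj)
      have hker : RingHom.ker π ≤ Q := by
        rw [Ideal.mk_ker]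
        exact nilradical_le_prime Q
      haveI : (Q.map π).IsPrime := Ideal.map_isPrime_of_surjective hπ hker
      have hcm : (Q.map π).comap π = Q := by
        rw [Ideal.comap_map_of_surjective _ hπ, ← RingHom.ker_eq_comap_bot, sup_eq_left.mpr hker]
      have hht : (Q.map π).height = Q.height := by
        let e : PrimeSpectrum (B ⧸ nilradical B) ≃o PrimeSpectrum B :=
          RelIso.ofSurjective (OrderEmbedding.ofMapLEIff (PrimeSpectrum.comap π)
            fun p p' => Ideal.comap_le_comap_iff_of_surjective _ hπ p.asIdeal p'.asIdeal) fun p => by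
              have hp : RingHom.ker π ≤ p.asIdeal := by rw [Ideal.mk_ker]; exact nilradical_le_prime _
              refine ⟨⟨p.asIdeal.map π, Ideal.map_isPrime_of_surjective hπ hp⟩, PrimeSpectrum.ext ?_⟩
              show (p.asIdeal.map π).comap π = _
              rw [Ideal.comap_map_of_surjective _ hπ, ← RingHom.ker_eq_comap_bot, sup_eq_left.mpr hp]
        rw [(⟨Q.map π, inferInstance⟩ : PrimeSpectrum _).height_eq_orderHeight,
          (⟨Q, hQp⟩ : PrimeSpectrum B).height_eq_orderHeight, ← Order.height_orderIso e]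
        congr 1
        exact PrimeSpectrum.ext hcm
      let R := Localization.AtPrime (Q.map π)
      let ρ := algebraMap (B ⧸ nilradical B) R
      have hdepth : (2 : ℕ∞) ≤ LocCoh.depth R R := by
        have h1 := hS2 (Q.map π)
        rw [InvFin.supportDim_self, ← InvFin.depth_self, hht] at h1
        rw [← WithBot.coe_le_coe]
        refine le_trans (le_min le_rfl (WithBot.coe_le_coe.mpr ?_)) h1
        rw [show (2 : ℕ∞) = 1 + 1 from rfl]
        exact ENat.add_one_le_iff ENat.one_ne_top |>.mpr (not_le.mp hQ1)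
      have hxreg : ∀ z : B ⧸ nilradical B, π x * z = 0 → z = 0 := fun z hz => by
        obtain ⟨z, rfl⟩ := hπ z
        rw [← map_mul, Ideal.Quotient.eq_zero_iff_mem, mem_nilradical_iff_minimal] at hz
        rw [Ideal.Quotient.eq_zero_iff_mem, mem_nilradical_iff_minimal]
        exact fun q hq => (hq.1.1.mem_or_mem (hz q hq)).resolve_left (hxmin q hq)
      have hxR : IsSMulRegular R (ρ (π x)) := isSMulRegular_iff_right_eq_zero_of_smul.mpr fun (z : R) (hz : ρ (π x) * z = 0) => by
        obtain ⟨⟨d, s⟩, hds⟩ := IsLocalization.surj (Q.map π).primeCompl z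
        have h0 : ρ (π x * d) = 0 := by rw [map_mul, ← hds, ← mul_assoc, hz, zero_mul]
        obtain ⟨t, ht⟩ := (IsLocalization.map_eq_zero_iff (Q.map π).primeCompl R _).mp h0
        have h1 := hxreg (t * d) (by rw [← mul_assoc, mul_comm _ (t : B ⧸ nilradical B), mul_assoc]; exact ht)
        have h2 : ρ d = 0 := (IsLocalization.map_eq_zero_iff (Q.map π).primeCompl R _).mpr ⟨t, h1⟩
        exact (IsLocalization.map_units R s).mul_left_eq_zero.mp (hds.trans h2)
      obtain ⟨e, he⟩ := exists_eq_mul_of_depth_two hdepth hxR (c := ρ (π c)) fun a ha => by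
        obtain ⟨⟨d, s⟩, hds⟩ := IsLocalization.surj (Q.map π).primeCompl a
        obtain ⟨y, rfl⟩ := hπ d
        have hy : π y ∈ Q.map π := by
          rw [← IsLocalization.AtPrime.to_map_mem_maximal_iff R (Q.map π), ← hds]
          exact Ideal.mul_mem_right _ _ ha
        obtain ⟨d', hd'⟩ := hmul y (by rw [← hcm]; exact hy)
        obtain ⟨v, hv⟩ := IsLocalization.map_units R s
        refine ⟨↑v⁻¹ * ρ (π d'), ?_⟩
        have h6 : a = ρ (π y) * ↑v⁻¹ := by rw [← hds, ← hv, mul_assoc, Units.mul_inv, mul_one]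
        rw [h6, show ρ (π y) * ↑v⁻¹ * ρ (π c) = ↑v⁻¹ * (ρ (π y * π c)) by rw [map_mul]; ring, hd', map_mul]
        ring
      obtain ⟨⟨e', s⟩, hes⟩ := IsLocalization.surj (Q.map π).primeCompl e
      have h0 : ρ (s * π c) = ρ (π x * e') := by rw [map_mul, map_mul, he, ← hes]; ring
      obtain ⟨t, ht⟩ := (IsLocalization.eq_iff_exists (Q.map π).primeCompl R).mp h0
      obtain ⟨f, hf⟩ := hπ ((t : B ⧸ nilradical B) * e')
      obtain ⟨u, hu⟩ := hπ ((t : B ⧸ nilradical B) * (s : B ⧸ nilradical B))
      have huQ : u ∉ Q := fun h => ((Q.map π).primeCompl.mul_mem t.2 s.2) (hu ▸ Ideal.mem_map_of_mem π h)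
      have hν : u * c - x * f ∈ nilradical B := by
        rw [← Ideal.Quotient.eq, map_mul, map_mul, show Ideal.Quotient.mk (nilradical B) u = (t : B ⧸ nilradical B) * s from hu,
          show Ideal.Quotient.mk (nilradical B) f = (t : B ⧸ nilradical B) * e' from hf, mul_assoc, ht]
        ring
      have hεν : algebraMap A B ε * (u * c - x * f) ∈ J.map (algebraMap A B) := ih J hJJ' _ fun q hq => by
        obtain ⟨s', hs', hsν⟩ := hlocN _ hν q hq
        refine ⟨s', hs', ?_⟩
        rw [← mul_assoc, mul_comm s', mul_assoc]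
        have h7 := Ideal.mul_mem_mul (Ideal.mem_span_singleton_self (algebraMap A B ε)) hsν
        rw [← Set.image_singleton, ← Ideal.map_span, ← Ideal.map_mul] at h7
        refine Ideal.map_mono ?_ h7
        rw [Ideal.mul_le]
        intro e₁ he₁ a ha
        obtain ⟨t', rfl⟩ := Ideal.mem_span_singleton'.mp he₁
        rw [show t' * ε * a = t' * (a * ε) by ring]
        exact J.mul_mem_left t' (hmε a ha)
      have hkey : u * b - algebraMap A B ε * f ∈ J.map (algebraMap A B) := by
        have h8 : x * (u * b - algebraMap A B ε * f) ∈ J.map (algebraMap A B) := by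
          rw [show x * (u * b - algebraMap A B ε * f) = u * j + algebraMap A B ε * (u * c - x * f) by
            linear_combination u * hjc]
          exact add_mem (Ideal.mul_mem_left _ _ hj) hεν
        exact ih J hJJ' _ fun q hq => ⟨x, hxmin q hq, h8⟩
      refine huQ ((hbQ u).mpr ?_)
      rw [← sub_add_cancel (u * b) (algebraMap A B ε * f)]
      exact add_mem (Ideal.map_mono hJJ'.le hkey) (Ideal.mul_mem_right _ _ (Ideal.mem_map_of_mem _ hεJ'))
  have hN : nilradical B = (maximalIdeal A).map (algebraMap A B) :=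
    le_antisymm (fun ν hν => hsat _ ν (hlocN ν hν)) (map_le_nilradical B)
  refine ⟨hN, Module.Flat.iff_rTensor_injective'.mpr fun J => ?_⟩
  induction J using WellFoundedLT.induction with
  | ind J' ih =>
    rw [injective_iff_map_eq_zero]
    intro z hz
    by_cases hbot : J' = ⊥
    · subst hbot
      exact Subsingleton.elim _ _
    obtain ⟨J, hJJ', ε, hεJ', hεJ, hgen, hmε⟩ := exists_step_below hbot
    let inc := (Submodule.inclusion hJJ'.le).rTensor B
    have hdec : ∀ z : J' ⊗[A] B, ∃ (b : B) (w : J ⊗[A] B), z = (⟨ε, hεJ'⟩ : J') ⊗ₜ[A] b + inc w := fun z => by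
      induction z using TensorProduct.induction_on with
      | zero => exact ⟨0, 0, by simp⟩
      | tmul a b =>
        obtain ⟨j, hj, t, ht, hjt⟩ := Submodule.mem_sup.mp (hgen.le a.2)
        obtain ⟨r, rfl⟩ := Ideal.mem_span_singleton'.mp ht
        refine ⟨r • b, ⟨j, hj⟩ ⊗ₜ[A] b, ?_⟩
        rw [← TensorProduct.smul_tmul, LinearMap.rTensor_tmul, ← TensorProduct.add_tmul]
        congr 1
        exact Subtype.ext (hjt.symm.trans (add_comm _ _))
      | add z₁ z₂ h₁ h₂ =>
        obtain ⟨b₁, w₁, rfl⟩ := h₁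
        obtain ⟨b₂, w₂, rfl⟩ := h₂
        exact ⟨b₁ + b₂, w₁ + w₂, by rw [TensorProduct.tmul_add, map_add]; abel⟩
    obtain ⟨b, w, rfl⟩ := hdec z
    have hw : ∀ w : J ⊗[A] B, TensorProduct.lid A B ((Submodule.subtype J).rTensor B w) ∈ J.map (algebraMap A B) := fun w => by
      induction w using TensorProduct.induction_on with
      | zero => simp
      | tmul a b =>
        rw [LinearMap.rTensor_tmul, TensorProduct.lid_tmul, Algebra.smul_def]
        exact Ideal.mul_mem_right _ _ (Ideal.mem_map_of_mem _ a.2)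
      | add a b ha hb => rw [map_add, map_add]; exact add_mem ha hb
    have hinc : ∀ w, (Submodule.subtype J').rTensor B (inc w) = (Submodule.subtype J).rTensor B w := fun w => by
      rw [← LinearMap.rTensor_comp_apply]
      rfl
    have h1 : algebraMap A B ε * b ∈ J.map (algebraMap A B) := by
      have h2 := congrArg (TensorProduct.lid A B) hz
      rw [map_add, map_add, map_zero, LinearMap.rTensor_tmul, TensorProduct.lid_tmul, hinc] at h2
      rw [← Algebra.smul_def, show ε • b = - TensorProduct.lid A B ((Submodule.subtype J).rTensor B w) from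
        eq_neg_of_add_eq_zero_left h2]
      exact neg_mem (hw w)
    have hb : b ∈ maximalIdeal A • (⊤ : Submodule A B) := by
      rw [Ideal.smul_top_eq_map]
      exact hN ▸ hann J ε hεJ b h1
    have hb2 : ∀ b ∈ maximalIdeal A • (⊤ : Submodule A B), ∃ w, (⟨ε, hεJ'⟩ : J') ⊗ₜ[A] b = inc w := fun b hb => by
      induction hb using Submodule.smul_induction_on' with
      | smul a ha b' _ =>
        refine ⟨⟨a * ε, hmε a ha⟩ ⊗ₜ[A] b', ?_⟩
        rw [← TensorProduct.smul_tmul, LinearMap.rTensor_tmul]
        rfl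
      | add b₁ _ b₂ _ h₁ h₂ =>
        obtain ⟨w₁, h₁⟩ := h₁
        obtain ⟨w₂, h₂⟩ := h₂
        exact ⟨w₁ + w₂, by rw [TensorProduct.tmul_add, h₁, h₂, map_add]⟩
    obtain ⟨w', hw'⟩ := hb2 b hb
    rw [hw', ← map_add, hinc] at hz
    rw [hw', ← map_add, (injective_iff_map_eq_zero _).mp (ih J hJJ') _ hz, map_zero]

end Groth.Agent.FlatS2
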